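import Cfsg.Agent.S0102
import Cfsg.Prelude.Def_CaseTheorems
import Mathlib.GroupTheory.SpecificGroups.Alternating.Simple

/-! Subgroups isomorphic to `A₅` (helper56). -/

set_option autoImplicit false

namespace Cfsg.Lib.GHC

open Subgroup Equiv

universe u

theorem exists_emb_A5 {n : ℕ} (hn : 5 ≤ n) :
    ∃ f : alternatingGroup (Fin 5) →* alternatingGroup (Fin n), Function.Injective f := by
  classical
  let e := Equiv.ofInjective (Fin.castLE hn) (Fin.castLE_injective hn)
  refine ⟨((Perm.extendDomainHom e).comp (alternatingGroup (Fin 5)).subtype).codRestrict _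
    fun x => ?_, fun x y h => Subtype.ext (Perm.extendDomainHom_injective e
      (congrArg Subtype.val h))⟩
  rw [Perm.mem_alternatingGroup]
  exact (Perm.sign_extendDomain _ _).trans (Perm.mem_alternatingGroup.1 x.2)

theorem perfect_A5 : commutator (alternatingGroup (Fin 5)) = ⊤ := by
  refine (inferInstance : (commutator (alternatingGroup (Fin 5))).Normal).eq_bot_or_eq_top.resolve_left
    fun h => ?_
  have := (commutator_eq_bot_iff_center_eq_top _).1 h
  have h1 := mem_center_iff.1 (this ▸ mem_top (⟨swap 0 1 * swap 1 2, Perm.mem_alternatingGroup.2 (by decide)⟩ :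
    alternatingGroup (Fin 5))) ⟨swap 2 3 * swap 3 4, Perm.mem_alternatingGroup.2 (by decide)⟩
  exact absurd (congrArg Subtype.val h1) (by decide)

theorem exists_A5_of_ker (n : ℕ) : ∀ (H : Type u) [Group H] [Finite H], Nat.card H = n →
    ∀ σ : H →* alternatingGroup (Fin 5), Function.Surjective σ → Nat.card σ.ker ∣ 3 →
    ∃ f : alternatingGroup (Fin 5) →* H, Function.Injective f := by
  induction n using Nat.strong_induction_on with
  | _ n ih =>
  intro H _ _ hn σ hσ hk
  have : Fact (Nat.Prime 3) := ⟨Nat.prime_three⟩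
  by_cases hp : commutator H = ⊤
  · rcases (Nat.dvd_prime Nat.prime_three).1 hk with h1 | h3
    · have hb : Function.Bijective σ := ⟨(MonoidHom.ker_eq_bot_iff σ).1 (card_eq_one.1 h1), hσ⟩
      exact ⟨(MulEquiv.ofBijective σ hb).symm.toMonoidHom, (MulEquiv.ofBijective σ hb).symm.injective⟩
    · exfalso
      have hc : IsCyclic σ.ker := isCyclic_of_prime_card h3
      refine Agent.S0102.result perfect_A5 (p := 3) (fun P => ?_) σ hσ (fun x hx => ?_) hp (h3 ▸ dvd_rfl)
      · refine isCyclic_of_prime_card (p := 3) ?_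
        rw [Sylow.card_eq_multiplicity, nat_card_alternatingGroup]
        simp only [Nat.card_eq_fintype_card, Fintype.card_fin]
        decide +kernel
      · let φ : H →* MulAut σ.ker := MulAut.conjNormal
        let e := IsCyclic.mulAutMulEquiv σ.ker
        have h1 := Abelianization.commutator_subset_ker (e.toMonoidHom.comp φ)
        refine mem_center_iff.2 fun g => ?_
        have h2 : φ g = 1 := e.map_eq_one_iff.1 (h1 (hp ▸ mem_top g))
        have h3 : g * x * g⁻¹ = x := congrArg (fun a : MulAut σ.ker => (a ⟨x, hx⟩ : H)) h2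
        exact mul_inv_eq_iff_eq_mul.1 h3
  · obtain ⟨f, hf⟩ := ih _ (hn ▸ (card_le_card_group (commutator H)).lt_of_ne fun e =>
      hp (eq_top_of_card_eq _ e)) (commutator H) rfl (σ.comp (commutator H).subtype) (by
        rw [← MonoidHom.range_eq_top, MonoidHom.range_comp, range_subtype, _root_.commutator_def,
          map_commutator, ← MonoidHom.range_eq_map, MonoidHom.range_eq_top.2 hσ]
        exact perfect_A5) (by
        rw [← MonoidHom.comap_ker]
        exact (card_comap_dvd_of_injective _ _ (subtype_injective _)).trans hk)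
    exact ⟨(commutator H).subtype.comp f, (subtype_injective _).comp hf⟩

theorem exists_A5 {H : Type*} [Group H] [Finite H]
    (h : (∃ n : ℕ, 5 ≤ n ∧ n ≤ 8 ∧ Nonempty (H ≃* alternatingGroup (Fin n))) ∨
      (∃ n : ℕ, 5 ≤ n ∧ n ≤ 7 ∧ Nonempty (H ≃* Equiv.Perm (Fin n))) ∨
      (Nat.card (pCore 3 H) = 3 ∧ (Nonempty (H ⧸ pCore 3 H ≃* alternatingGroup (Fin 5)) ∨
        Nonempty (H ⧸ pCore 3 H ≃* Equiv.Perm (Fin 5))))) :
    ∃ A : Subgroup H, Nonempty (A ≃* alternatingGroup (Fin 5)) := by
  suffices ∃ f : alternatingGroup (Fin 5) →* H, Function.Injective f by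
    obtain ⟨f, hf⟩ := this
    exact ⟨f.range, ⟨(MonoidHom.ofInjective hf).symm⟩⟩
  rcases h with ⟨n, hn, -, ⟨e⟩⟩ | ⟨n, hn, -, ⟨e⟩⟩ | ⟨h3, ⟨⟨e⟩⟩ | ⟨⟨e⟩⟩⟩
  · obtain ⟨f, hf⟩ := exists_emb_A5 hn
    exact ⟨e.symm.toMonoidHom.comp f, e.symm.injective.comp hf⟩
  · obtain ⟨f, hf⟩ := exists_emb_A5 hn
    exact ⟨e.symm.toMonoidHom.comp ((alternatingGroup _).subtype.comp f),
      e.symm.injective.comp ((subtype_injective _).comp hf)⟩
  · refine exists_A5_of_ker _ H rfl (e.toMonoidHom.comp (QuotientGroup.mk' _))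
      (e.surjective.comp (QuotientGroup.mk'_surjective _)) ?_
    rw [show (e.toMonoidHom.comp (QuotientGroup.mk' (pCore 3 H))).ker = pCore 3 H from
      Subgroup.ext fun x => e.map_eq_one_iff.trans (QuotientGroup.eq_one_iff x), h3]
  · let τ := e.toMonoidHom.comp (QuotientGroup.mk' (pCore 3 H))
    have hτ : Function.Surjective τ := e.surjective.comp (QuotientGroup.mk'_surjective _)
    have hk : τ.ker = pCore 3 H := 
      Subgroup.ext fun x => e.map_eq_one_iff.trans (QuotientGroup.eq_one_iff x)
    obtain ⟨f, hf⟩ := exists_A5_of_ker _ ((alternatingGroup (Fin 5)).comap τ) rfl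
      (τ.subgroupComap _) (MonoidHom.subgroupComap_surjective_of_surjective _ _ hτ) (by
        have : (τ.subgroupComap (alternatingGroup (Fin 5))).ker = τ.ker.comap (Subgroup.subtype _) :=
          Subgroup.ext fun x => Subtype.ext_iff
        rw [this, ← h3, ← hk]
        exact card_comap_dvd_of_injective _ _ (subtype_injective _))
    exact ⟨(Subgroup.subtype _).comp f, (subtype_injective _).comp hf⟩

end Cfsg.Lib.GHC
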