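import Cfsg.Agent.S0205
import Cfsg.Agent.Gold.Defs
import Cfsg.Agent.Trans.SylowIn
import Cfsg.Agent.Solv.PConstrained
import Cfsg.Agent.Solv.SecRank
import Cfsg.Agent.Solv.MetacyclicTwo
import Cfsg.Agent.Rank2.GMPart
import Cfsg.Agent.Local.InvCent

/-!
# An involution centraliser modulo its core

`St t π`: `π` maps `C(t)` onto the nonsolvable group `X` of characteristic two and sectional rank
at most four; the kernel has odd order.
-/

set_option autoImplicit false

namespace Cfsg.Lib.GHC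

open Subgroup Cfsg.Lib.Trans Cfsg.Lib.Gold Cfsg.Lib.Solv

variable {G X : Type*} [Group G] [Group X]

/-- The centraliser of the involution `t` modulo a normal subgroup of odd order. -/
structure St (t : G) (π : C1 t →* X) : Prop where
  ord : orderOf t = 2
  surj : Function.Surjective π
  odd : Odd (Nat.card π.ker)
  cent : Cs (pCore 2 X) ≤ pCore 2 X
  core : oddCore X = ⊥
  rank : SectionalPRankLE 2 4 X
  ns : ¬ Group.IsSolvable X

/-- The image of `t`. -/
def tb {t : G} (π : C1 t →* X) : X := π ⟨t, mem_centralizer_singleton_iff.2 rfl⟩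

theorem exists_st [Finite G] (h4 : SectionalPRankLE 2 4 G) {t : G} (ht : orderOf t = 2)
    (hns : ¬ Group.IsSolvable (C1 t)) (hc : IsPConstrained 2 (C1 t)) :
    St t (QuotientGroup.mk' (oddCore (C1 t))) := by
  have : Fact (Nat.Prime 2) := ⟨Nat.prime_two⟩
  refine ⟨ht, QuotientGroup.mk'_surjective _, by rw [QuotientGroup.ker_mk']; exact odd_card_oddCore _,
    isPConstrained_iff_quotient.1 hc, pPrimeCore_quotient_pPrimeCore 2 _,
    PG.secRank_quotient (PG.secRank_subgroup h4 _) _, fun h => hns ?_⟩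
  have := Cfsg.Agent.S0205.result (odd_card_oddCore (C1 t))
  exact Group.isSolvable_of_ker_le_range (oddCore (C1 t)).subtype
    (QuotientGroup.mk' (oddCore (C1 t))) (by simp)

/-- A Sylow subgroup of `C(t)` whose centre is `⟨t⟩` is a Sylow subgroup of the group. -/
theorem syl_top [Finite G] {t : G} {S : Subgroup G} (hS : IsSylowIn 2 S (C1 t)) (ht : t ≠ 1)
    (htS : t ∈ S) (hZ : ∀ x ∈ S, (∀ s ∈ S, x * s = s * x) → x = 1 ∨ x = t) : IsSylowIn 2 S ⊤ := by
  have : Fact (Nat.Prime 2) := ⟨Nat.prime_two⟩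
  refine isSylowIn_of_maximal le_top hS.isPGroup fun Q hQ h1 _ => ?_
  by_contra h
  obtain ⟨k, hk, hk'⟩ := SetLike.exists_of_lt (lt_inf_normalizer hQ (lt_of_le_not_ge h1 h))
  have e : k * t * k⁻¹ = t := by
    refine (hZ _ ((mem_normalizer_iff.1 hk.2 t).1 htS) fun s hs => ?_).resolve_left (by simpa)
    have := mem_centralizer_singleton_iff.1 (hS.le ((mem_normalizer_iff.1 (inv_mem hk.2) s).1 hs))
    calc _ = k * (t * (k⁻¹ * s * k⁻¹⁻¹)) * k⁻¹ := by group
      _ = _ := by rw [← this]; group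
  exact hk' ((hS.eq_inf hQ h1).le ⟨hk.1, mem_centralizer_singleton_iff.2 (by
    rw [← mul_inv_eq_iff_eq_mul, e])⟩)

/-- If all involutions of a Sylow subgroup `S` of `C(t)` lie in the elementary abelian subgroup
`E`, then some element of the normaliser of `E` moves `t`. -/
theorem exists_mover [Finite G] [IsSimpleGroup G] (hG : ¬ IsMulCommutative G) {t : G}
    {S E : Subgroup G} (ht : orderOf t = 2) (hS : IsSylowIn 2 S (C1 t)) (hES : E ≤ S)
    (h1 : ∀ x ∈ E, x * x = 1) (h2 : ∀ x ∈ S, x * x = 1 → x ∈ E) :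
    ∃ k ∈ Ns E, k * t ≠ t * k := by
  have : Fact (Nat.Prime 2) := ⟨Nat.prime_two⟩
  have tt : t * t = 1 := by rw [← sq, ← ht, pow_orderOf_eq_one]
  have key : ∀ k : G, cj k E ≤ S → k ∈ Ns E := fun k hk => by
    rw [← cj_eq_self_iff]
    refine eq_of_le_of_card_ge (fun x hx => h2 x (hk hx) ?_) (card_cj k E).ge
    obtain ⟨y, hy, rfl⟩ := hx
    change k * y * k⁻¹ * (k * y * k⁻¹) = 1
    rw [conj_mul, h1 y hy]; simp
  have htS : t ∈ S := hS.le_of_normal (Local.isPGroup_zpowers_of_orderOf_two ht)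
    (zpowers_le.2 (mem_centralizer_singleton_iff.2 rfl)) (fun g hg => mem_normalizer_fintype
      fun n hn => by
        obtain ⟨k, rfl⟩ := hn
        rw [← conj_zpow, mem_centralizer_singleton_iff.1 hg, mul_inv_cancel_right]
        exact ⟨k, rfl⟩) (mem_zpowers t)
  obtain ⟨P, hP⟩ := hS.exists_sylow_inf
  by_cases hPS : (P : Subgroup G) ≤ S
  · have hz : t ∉ center G := fun h => by
      rcases (inferInstance : (center G).Normal).eq_bot_or_eq_top with e | e
      · rw [e, mem_bot] at h; rw [h, orderOf_one] at ht; omega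
      · exact hG ⟨⟨fun a b => (mem_center_iff.1 (e ▸ mem_top b) a)⟩⟩
    obtain ⟨v, hv, hvP, hne⟩ := Local.exists_conj_ne_of_not_central
      (Local.oddCore_eq_bot_of_isSimpleGroup ht) P ht (hP.ge htS).1 hz
    obtain ⟨g, rfl⟩ := isConj_iff.1 hv
    have hE : g * t * g⁻¹ ∈ E := h2 _ (hPS hvP) (by rw [conj_mul, tt]; simp)
    obtain ⟨c, hc, e⟩ := hS.exists_cj_le (Q := cj g⁻¹ E)
      ((hS.isPGroup.to_le hES).map _) (cj_le_iff.2 fun x hx => mem_centralizer_singleton_iff.2 (by
        have a : x * (g * t * g⁻¹) = g * t * g⁻¹ * x := by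
          have b := h1 _ (mul_mem hx hE)
          rw [← inv_eq_of_mul_eq_one_right b, mul_inv_rev, inv_eq_of_mul_eq_one_right (h1 _ hx),
            inv_eq_of_mul_eq_one_right (h1 _ hE)]
        calc _ = g⁻¹ * (x * (g * t * g⁻¹)) * g := by group
          _ = _ := by rw [a]; group))
    rw [cj_cj] at e
    refine ⟨_, inv_mem (key _ e), fun h => hne ?_⟩
    calc _ = g * c⁻¹ * (c * t) * g⁻¹ := by group
      _ = (c * g⁻¹)⁻¹ * t * (c * g⁻¹) := by rw [mem_centralizer_singleton_iff.1 hc]; group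
      _ = t := by rw [h]; group
  · obtain ⟨k, hk, hk'⟩ := SetLike.exists_of_lt (lt_inf_normalizer P.isPGroup'
      (lt_of_le_not_ge (hP.ge.trans inf_le_left) hPS))
    refine ⟨k, key k ((cj_mono k hES).trans (cj_eq_of_mem_normalizer hk.2).le), fun h => hk' ?_⟩
    exact hP.le ⟨hk.1, mem_centralizer_singleton_iff.2 h⟩

namespace St

variable [Finite G] {t : G} {π : C1 t →* X} (h : St t π)
include h

theorem finite : Finite X := Finite.of_surjective π h.surj

theorem constr : IsPConstrained 2 X :=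
  have := h.finite
  have : Fact (Nat.Prime 2) := ⟨Nat.prime_two⟩
  (isPConstrained_iff_of_pPrimeCore_eq_bot h.core).2 h.cent

omit [Finite G] in
theorem eq_one {x : C1 t} {k : ℕ} (h1 : x ^ 2 ^ k = 1) (h2 : π x = 1) : x = 1 := by
  rw [← orderOf_eq_one_iff]
  exact Nat.eq_one_of_dvd_coprimes (Nat.Coprime.pow_right k h.odd.coprime_two_right)
    (orderOf_dvd_natCard _ h2) (orderOf_dvd_of_pow_eq_one h1)

omit [Finite G] in
theorem eq_of_mem {S : Subgroup (C1 t)} (hS : IsPGroup 2 S) {x y : C1 t} (hx : x ∈ S) (hy : y ∈ S)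
    (e : π x = π y) : x = y := by
  obtain ⟨k, hk⟩ := hS ⟨x * y⁻¹, mul_mem hx (inv_mem hy)⟩
  exact mul_inv_eq_one.1 (h.eq_one (k := k) (congrArg Subtype.val hk) (by simp [e]))

theorem isConj {x y : C1 t} {a b : ℕ} (hx : x ^ 2 ^ a = 1) (hy : y ^ 2 ^ b = 1)
    (e : IsConj (π x) (π y)) : IsConj x y :=
  Rank2.GMC.isConj_of_map h.surj h.odd hx hy e

omit [Finite G] in
theorem tb_comm (x : X) : x * tb π = tb π * x := by
  obtain ⟨c, rfl⟩ := h.surj x
  rw [tb, ← map_mul, ← map_mul]
  exact congrArg π (Subtype.ext (mem_centralizer_singleton_iff.1 c.2))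

omit [Finite G] in
theorem tb_sq : tb π * tb π = 1 := by
  rw [tb, ← map_mul, ← map_one π]
  exact congrArg π (Subtype.ext (by change t * t = 1; rw [← sq, ← h.ord, pow_orderOf_eq_one]))

omit [Finite G] in
theorem tb_ne : tb π ≠ 1 := fun e => by
  have := h.eq_one (k := 1) (Subtype.ext (by change t ^ 2 = 1; rw [← h.ord, pow_orderOf_eq_one])) e
  have e1 := h.ord
  rw [show t = 1 from congrArg Subtype.val this, orderOf_one] at e1
  omega

omit [Finite G] in
theorem tb_mem : tb π ∈ pCore 2 X := h.cent fun x _ => h.tb_comm x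

/-- A section over a 2-subgroup `P` of `X`; its range is Sylow in `C(t)` if `P` is Sylow. -/
theorem exists_sec {P : Subgroup X} (hP : IsPGroup 2 P) :
    ∃ j : P →* C1 t, (∀ x, π (j x) = x) ∧ IsPGroup 2 j.range ∧
      (¬ 2 ∣ P.index → IsSylowIn 2 (j.range.map (C1 t).subtype) (C1 t)) := by
  have : Fact (Nat.Prime 2) := ⟨Nat.prime_two⟩
  have := h.finite
  obtain ⟨S, hS⟩ := exists_isSylowIn (p := 2) (P.comap π)
  have hk : π.ker ≤ P.comap π := ker_le_comap _ _
  have e : S.map π = P := by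
    refine eq_of_le_of_card_ge (map_le_iff_le_comap.2 hS.le) ?_
    obtain ⟨n, hn⟩ := IsPGroup.iff_card.1 hP
    have h1 : P.comap π ≤ S ⊔ π.ker := by
      rw [← relIndex_eq_one]
      have a : (S ⊔ π.ker).relIndex (P.comap π) ∣ 2 ^ n := by
        refine (relIndex_dvd_of_le_left _ le_sup_right).trans ?_
        rw [← hn, ← MonoidHom.comap_bot, relIndex_comap, map_comap_eq_self_of_surjective h.surj,
          relIndex_bot_left]
      obtain ⟨m, -, b⟩ := (Nat.dvd_prime_pow Nat.prime_two).1 a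
      rcases m with _ | m
      · simpa using b
      · exact absurd (b ▸ dvd_pow_self 2 (by omega)) (hS.not_dvd_relIndex_of_le le_sup_left)
    refine Trans.card_le_of_le ((map_comap_eq_self_of_surjective h.surj P).ge.trans
      ((map_mono h1).trans ?_))
    rw [Subgroup.map_sup, (Subgroup.map_eq_bot_iff _).2 le_rfl, sup_bot_eq]
  have hb : Function.Bijective (π.subgroupMap S) := ⟨fun x y a => Subtype.ext
    (h.eq_of_mem hS.isPGroup x.2 y.2 (congrArg Subtype.val a)), π.subgroupMap_surjective S⟩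
  subst e
  let f := (MulEquiv.ofBijective _ hb).symm
  have er : (S.subtype.comp f.toMonoidHom).range = S := by
    rw [MonoidHom.range_comp, MonoidHom.range_eq_top.2 f.surjective, ← MonoidHom.range_eq_map,
      range_subtype]
  refine ⟨S.subtype.comp f.toMonoidHom,
    fun x => congrArg Subtype.val ((MulEquiv.ofBijective _ hb).apply_symm_apply x),
    er.symm ▸ hS.isPGroup, fun hi => ?_⟩
  rw [er]
  obtain ⟨T, hT⟩ := (hS.trans le_top (by
    rwa [relIndex_top_right, index_comap_of_surjective _ h.surj])).exists_sylow_eq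
  exact hT ▸ isSylowIn_map_subtype T

end St

end Cfsg.Lib.GHC
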