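import Cfsg.Agent.GHC.Defs2
import Cfsg.Agent.GHB.L3a

/-! The frame for the case `X / O₂(X) ≅ L₃(2)` (helper56). -/

set_option autoImplicit false

namespace Cfsg.Lib.GHC

open Subgroup Cfsg.Lib.Trans Cfsg.Lib.Gold
open scoped commutatorElement

section Aux
variable {X : Type*} [Group X] {Q E : Subgroup X} {g b k z : X}

theorem eq_one_of_seven (h7 : g ^ 7 = 1) (e : g * b * g⁻¹ = b * k) (hk : k * k = 1)
    (hc : g * k = k * g) : k = 1 := by
  have key : ∀ n : ℕ, g ^ n * b * (g ^ n)⁻¹ = b * k ^ n := fun n => by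
    induction n with
    | zero => simp
    | succ n ih =>
      calc g ^ (n + 1) * b * (g ^ (n + 1))⁻¹ = g * (g ^ n * b * (g ^ n)⁻¹) * g⁻¹ := by group
        _ = g * b * g⁻¹ * (g * k ^ n * g⁻¹) := by rw [ih]; group
        _ = b * k ^ (n + 1) := by
          rw [e, ((show Commute g k from hc).pow_right n).eq]; group
  have h1 := key 7
  rw [h7, one_mul, inv_one, mul_one, left_eq_mul] at h1
  have h2 : k ^ 7 = (k * k) ^ 3 * k := by rw [← pow_two, ← pow_mul, ← pow_succ]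
  rwa [h2, hk, one_pow, one_mul] at h1

theorem comm_of_seven (h7 : g ^ 7 = 1) (hE : ∀ e ∈ E, e * e = 1)
    (h : ∀ b ∈ E, ⁅g, b⁆ ∈ E ⊓ center X) : ∀ b ∈ E, g * b = b * g := fun b hb => by
  have h1 := mem_center_iff.1 (h b hb).2
  have := eq_one_of_seven (b := b) h7 (by rw [h1 b, commutatorElement_def]; group)
    (hE _ (h b hb).1) (h1 g)
  exact commutatorElement_eq_one_iff_mul_comm.1 this

theorem mem_zpowers_two (hz : z * z = 1) (h : k ∈ zpowers z) : k = 1 ∨ k = z := by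
  obtain ⟨n, rfl⟩ := mem_zpowers_iff.1 h
  have h2 : z ^ (2 : ℤ) = 1 := by rw [zpow_two, hz]
  rcases Int.even_or_odd' n with ⟨m, rfl | rfl⟩
  · left; rw [zpow_mul, h2, one_zpow]
  · right; rw [zpow_add, zpow_mul, h2, one_zpow, one_mul, zpow_one]

theorem model_z4 : ∃ u0 : Multiplicative (ZMod 4) × (Fin 3 → Multiplicative (ZMod 2)),
    (∀ y, y * y = 1 ∨ u0⁻¹ * y * (u0⁻¹ * y) = 1) ∧ (∀ y, y * y = 1 ∨ y * y = u0 * u0) ∧
      u0 * u0 ≠ 1 ∧ u0 * u0 * (u0 * u0) = 1 :=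
  ⟨(Multiplicative.ofAdd 1, 1), by decide, by decide, by decide, by decide⟩

variable [Finite X]

theorem central_card (h4 : SectionalPRankLE 2 4 X) [hn : E.Normal] (h7 : g ^ 7 = 1)
    (hE : ∀ e ∈ E, e * e = 1) (hc : Nat.card E ≤ 16) (hz : z ∈ E) (z1 : z ≠ 1)
    (zc : ∀ x, x * z = z * x) (h : ¬ ∀ b ∈ E, g * b = b * g) :
    Nat.card E = 16 ∧ (∀ s ∈ E, s ≠ 1 → (∀ x, x * s = s * x) → s = z) ∧
      ∃ b ∈ E, ⁅g, b⁆ ∉ zpowers z := by
  have hK : z ∈ E ⊓ center X := ⟨hz, mem_center_iff.2 zc⟩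
  have h3 : ∃ b ∈ E, ⁅g, b⁆ ∉ E ⊓ center X := by
    by_contra! e
    exact h (comm_of_seven h7 hE e)
  have h2 : 1 < Nat.card (E ⊓ center X : Subgroup X) :=
    (one_lt_card_iff_ne_bot _).2 fun e => z1 (mem_bot.1 (e ▸ hK))
  have h5 := GHB.EA.act7 (K := E ⊓ center X) h4
    (GHB.EA.of_normal inf_le_left fun x hx => by rw [hE x hx]; exact one_mem _)
    (fun b hb => hn.conj_mem b hb g) (fun b _ => by rw [h7]; simp) h3
  have h6 : Nat.card (E ⊓ center X : Subgroup X) = 2 := by omega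
  refine ⟨by omega, fun s hs s1 sc => ?_, h3.imp fun b hb => ⟨hb.1, fun e => hb.2
    (zpowers_le.2 hK e)⟩⟩
  obtain ⟨y, -, hy⟩ := (Nat.card_eq_two_iff' (1 : (E ⊓ center X : Subgroup X))).1 h6
  exact congrArg Subtype.val ((hy ⟨s, hs, mem_center_iff.2 sc⟩ fun e =>
    s1 (congrArg Subtype.val e)).trans (hy ⟨z, hK⟩ fun e => z1 (congrArg Subtype.val e)).symm)

theorem fr_of {ψ : X →* M3} (hR : GHB.Rep Q ψ) [hQ : Q.Normal] [hn : E.Normal] (le : E ≤ Q)
    (hE : ∀ e ∈ E, e * e = 1) (hc : Nat.card E = 16) (hz : z ∈ E) (z1 : z ≠ 1)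
    (zc : ∀ x, x * z = z * x) (cent : ∀ q ∈ Q, ∀ e ∈ E, q * e = e * q)
    (h : ∃ b ∈ E, ⁅g, b⁆ ∉ zpowers z) : ∃ ρ ν, Fr Q E z ρ ν := by
  have := GHB.zpowers_normal zc
  have h2 : Nat.card (zpowers z) = 2 := by
    rw [Nat.card_zpowers]; exact orderOf_eq_prime (by rw [pow_two, hE z hz]) z1
  obtain ⟨ρ, ν, c⟩ := hR.crd (K := zpowers z) (B := E)
    (GHB.EA.of_normal (zpowers_le.2 hz) fun x hx => by rw [hE x hx]; exact one_mem _)
    (by rw [hc, h2]) (fun q hq b hb => by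
      rw [commutatorElement_eq_one_iff_mul_comm.2 (cent q hq b hb)]; exact one_mem _) h
  exact ⟨ρ, ν, hQ, hn, le, hE, hc, hR.index, hz, z1, zc, cent, c.ker, c.onto, c.add,
    fun e he => (c.zero e he).trans ⟨mem_zpowers_two (hE z hz), by
      rintro (rfl | rfl)
      exacts [one_mem _, mem_zpowers _]⟩, c.sur, c.conj⟩

end Aux

variable {G X : Type*} [Group G] [Group X] [Finite G] {t : G} {π : C1 t →* X}

theorem St.exists_fr (h : St t π) {F : Type*} [Field F] [Fintype F] (hF : Fintype.card F = 2)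
    (e : X ⧸ pCore 2 X ≃* Matrix.ProjectiveSpecialLinearGroup (Fin 3) F)
    (hQ : (IsElementaryAbelian 2 (pCore 2 X) ∧
        (Nat.card (pCore 2 X) = 8 ∨ Nat.card (pCore 2 X) = 16)) ∨
      Nonempty (pCore 2 X ≃* Multiplicative (ZMod 4) × (Fin 3 → Multiplicative (ZMod 2)))) :
    ∃ E ρ ν, Fr (pCore 2 X) E (tb π) ρ ν ∧
      (E = pCore 2 X ∨ ∃ u, Z4 (pCore 2 X) E (tb π) u) := by
  have : Fact (Nat.Prime 2) := ⟨Nat.prime_two⟩
  have : Fact (Nat.Prime 7) := ⟨by norm_num⟩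
  have := h.finite
  obtain ⟨e2⟩ := Agent.S2553.nonempty_psl_equiv 2
  let e' := e.trans
    ((Lib.Class.pslEquiv (Fin 3) (ZMod.ringEquivOfPrime F Nat.prime_two hF).symm).trans e2)
  have hR : GHB.Rep (pCore 2 X)
      ((Units.coeHom _).comp (e'.toMonoidHom.comp (QuotientGroup.mk' _))) :=
    ⟨fun g => Units.val_eq_one.trans (e'.map_eq_one_iff.trans (QuotientGroup.eq_one_iff g)),
      fun M N h => (e'.surjective.comp (QuotientGroup.mk'_surjective _)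
        ⟨M, N, h, mul_eq_one_comm.1 h⟩).imp fun _ k => congrArg Units.val k⟩
  have hP := Solv.pCore_isPGroup 2 X
  obtain ⟨g, hg⟩ := exists_prime_orderOf_dvd_card' (G := X) 7 (by
    rw [← (pCore 2 X).card_mul_index, hR.index]; exact Dvd.dvd.mul_left (by norm_num) _)
  have h7 : g ^ 7 = 1 := hg ▸ pow_orderOf_eq_one g
  have hgQ : ¬ ∀ b ∈ pCore 2 X, g * b = b * g := fun hc => by
    obtain ⟨k, hk⟩ := hP ⟨g, h.cent fun b hb => (hc b hb).symm⟩
    have := orderOf_dvd_of_pow_eq_one (show g ^ 2 ^ k = 1 from congrArg Subtype.val hk)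
    rw [hg] at this
    exact absurd ((Nat.Prime.dvd_of_dvd_pow (by norm_num)) this) (by norm_num)
  rcases hQ with ⟨h1, h2⟩ | ⟨⟨φ⟩⟩
  · have hE : ∀ x ∈ pCore 2 X, x * x = 1 := fun x hx => by rw [← pow_two]; exact h1.2 x hx
    obtain ⟨a1, -, a3⟩ := central_card h.rank h7 hE (by omega) h.tb_mem h.tb_ne h.tb_comm hgQ
    obtain ⟨ρ, ν, f⟩ := fr_of hR le_rfl hE a1 h.tb_mem h.tb_ne h.tb_comm (fun q hq x hx =>
      congrArg Subtype.val (h1.1.is_comm.comm (⟨q, hq⟩ : pCore 2 X) ⟨x, hx⟩)) a3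
    exact ⟨_, ρ, ν, f, Or.inl rfl⟩
  · have cm : ∀ q ∈ pCore 2 X, ∀ q' ∈ pCore 2 X, q * q' = q' * q := fun q hq q' hq' =>
      congrArg Subtype.val (φ.injective (a₁ := ⟨q, hq⟩ * ⟨q', hq'⟩) (a₂ := ⟨q', hq'⟩ * ⟨q, hq⟩)
        (by rw [map_mul, map_mul, mul_comm]))
    let E : Subgroup X :=
      { carrier := {q | q ∈ pCore 2 X ∧ q * q = 1}
        one_mem' := ⟨one_mem _, one_mul _⟩
        mul_mem' := fun {a b} ha hb => ⟨mul_mem ha.1 hb.1, by
          rw [mul_assoc, ← mul_assoc b, cm b hb.1 a ha.1, mul_assoc, hb.2, mul_one, ha.2]⟩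
        inv_mem' := fun {a} ha => ⟨inv_mem ha.1, by rw [← mul_inv_rev, ha.2, inv_one]⟩ }
    have hn : E.Normal := ⟨fun a ha x => ⟨(pCore_normal 2 X).conj_mem a ha.1 x, by
      rw [conj_mul, ha.2]; simp⟩⟩
    obtain ⟨u0, m1, m2, m3, m4⟩ := model_z4
    obtain ⟨⟨u, hu⟩, eu⟩ := φ.surjective u0
    have split : ∀ q ∈ pCore 2 X, q ∈ E ∨ u⁻¹ * q ∈ E := fun q hq =>
      (m1 (φ ⟨q, hq⟩)).imp
        (fun a => ⟨hq, congrArg Subtype.val (φ.injective (a₁ := ⟨q, hq⟩ * ⟨q, hq⟩) (a₂ := 1)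
          (by rw [map_mul, a, map_one]))⟩)
        fun a => ⟨mul_mem (inv_mem hu) hq, congrArg Subtype.val (φ.injective
          (a₁ := ⟨u, hu⟩⁻¹ * ⟨q, hq⟩ * (⟨u, hu⟩⁻¹ * ⟨q, hq⟩)) (a₂ := 1)
          (by rw [map_mul, map_mul, map_inv, eu, a, map_one]))⟩
    have s1 : u * u ≠ 1 := fun a => m3 (by
      rw [← eu, ← map_mul, show (⟨u, hu⟩ * ⟨u, hu⟩ : pCore 2 X) = 1 from Subtype.ext a, map_one])
    have s2 : u * u ∈ E := ⟨mul_mem hu hu, congrArg Subtype.val (φ.injective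
      (a₁ := ⟨u, hu⟩ * ⟨u, hu⟩ * (⟨u, hu⟩ * ⟨u, hu⟩)) (a₂ := 1)
      (by rw [map_mul, map_mul, eu, m4, map_one]))⟩
    have s3 : ∀ x : X, x * u * x⁻¹ ∉ E := fun x a => s1 (by
      have := a.2
      rw [conj_mul] at this
      simpa using this)
    have s4 : ∀ x, x * (u * u) = u * u * x := fun x => by
      have hx := (pCore_normal 2 X).conj_mem u hu x
      rcases m2 (φ ⟨_, hx⟩) with a | a
      · exact absurd ⟨hx, congrArg Subtype.val (φ.injective (a₁ := ⟨_, hx⟩ * ⟨_, hx⟩) (a₂ := 1)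
          (by rw [map_mul, a, map_one]))⟩ (s3 x)
      · have : x * u * x⁻¹ * (x * u * x⁻¹) = u * u := congrArg Subtype.val (φ.injective
          (a₁ := ⟨_, hx⟩ * ⟨_, hx⟩) (a₂ := ⟨u, hu⟩ * ⟨u, hu⟩) (by rw [map_mul, map_mul, a, eu]))
        rw [conj_mul] at this
        exact mul_inv_eq_iff_eq_mul.1 this
    have c32 : Nat.card (pCore 2 X) = 32 := by
      rw [Nat.card_congr φ.toEquiv]; simp
    have c16 : Nat.card E = 16 := by
      have a := GHB.card_adj (B := E) (g := u) (fun b hb => hn.conj_mem b hb u) s2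
        (by simpa using s3 1)
      have b : E ⊔ zpowers u = pCore 2 X := le_antisymm
        (sup_le (fun _ a => a.1) (zpowers_le.2 hu)) fun q hq =>
          (GHB.mem_adj (fun b hb => hn.conj_mem b hb u) s2).2 (split q hq)
      rw [b, c32] at a
      omega
    have hgE : ¬ ∀ b ∈ E, g * b = b * g := fun hc => by
      have a := (split _ ((pCore_normal 2 X).conj_mem u hu g)).resolve_left (s3 g)
      have b := eq_one_of_seven (b := u) h7 (by group) a.2 (hc _ a)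
      have c : g * u = u * g := mul_inv_eq_iff_eq_mul.1 (inv_mul_eq_one.1 b).symm
      refine hgQ fun q hq => (split q hq).elim (hc q) fun d => ?_
      have := (show Commute g u from c).mul_right (show Commute g _ from hc _ d)
      rwa [mul_inv_cancel_left] at this
    have zE : tb π ∈ E := ⟨h.tb_mem, h.tb_sq⟩
    obtain ⟨-, a2, a3⟩ := central_card (E := E) h.rank h7 (fun _ a => a.2) c16.le zE h.tb_ne h.tb_comm hgE
    obtain ⟨ρ, ν, f⟩ := fr_of (E := E) hR (fun _ a => a.1) (fun _ a => a.2) c16 zE h.tb_ne h.tb_comm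
      (fun q hq x hx => cm q hq x hx.1) a3
    exact ⟨E, ρ, ν, f, Or.inr ⟨u, hu, a2 _ s2 s1 s4, c32, cm, split⟩⟩

end Cfsg.Lib.GHC
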