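import Cfsg.Agent.GHC.Defs
import Cfsg.Agent.GHB.Invol
import Mathlib.LinearAlgebra.Matrix.Notation

/-!
# The case `X / O₂(X) ≅ L₃(2)`: interfaces

* `Fr`: coordinates for the action of `X` on `E / ⟨z⟩`, `E = Ω₁(O₂(X))` of order sixteen.
* `Z4`: the case `O₂(X) = Z₄ × E₈`.  `Tv`: involutions act on `E` as transvections.
* `NB`, `N1`, `N2`: no involution outside `E`.  `MX`, `MS`: the configuration of `M₂₃`.
-/

set_option autoImplicit false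

namespace Cfsg.Lib.GHC

open Subgroup Cfsg.Lib.Trans Cfsg.Lib.Gold
open scoped commutatorElement

/-- The natural module of `GL₃(2)`. -/
abbrev V3 : Type := Fin 3 → ZMod 2

/-- Three by three matrices over the field with two elements. -/
abbrev M3 : Type := Matrix (Fin 3) (Fin 3) (ZMod 2)

variable {G X : Type*} [Group G] [Group X]

/-- `X` acts on `E / ⟨z⟩` as `GL₃(2)` with kernel `Q`. -/
structure Fr (Q E : Subgroup X) (z : X) (ρ : X →* M3) (ν : X → V3) : Prop where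
  nQ : Q.Normal
  nE : E.Normal
  le : E ≤ Q
  sq : ∀ e ∈ E, e * e = 1
  card : Nat.card E = 16
  index : Q.index = 168
  mem : z ∈ E
  ne : z ≠ 1
  zc : ∀ x, x * z = z * x
  cent : ∀ q ∈ Q, ∀ e ∈ E, q * e = e * q
  ker : ∀ x, ρ x = 1 ↔ x ∈ Q
  surj : ∀ M N : M3, M * N = 1 → ∃ x, ρ x = M
  add : ∀ e ∈ E, ∀ e' ∈ E, ν (e * e') = ν e + ν e'
  zero : ∀ e ∈ E, ν e = 0 ↔ e = 1 ∨ e = z
  onto : ∀ v, ∃ e ∈ E, ν e = v
  act : ∀ x, ∀ e ∈ E, ν (x * e * x⁻¹) = (ρ x).mulVec (ν e)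

/-- `Q = ⟨u⟩ E` is abelian of order 32 and `u² = z`. -/
structure Z4 (Q E : Subgroup X) (z u : X) : Prop where
  mem : u ∈ Q
  sq : u * u = z
  card : Nat.card Q = 32
  comm : ∀ q ∈ Q, ∀ q' ∈ Q, q * q' = q' * q
  split : ∀ q ∈ Q, q ∈ E ∨ u⁻¹ * q ∈ E

/-- The involutions modulo `Q` act on `E` as transvections. -/
def Tv (Q E : Subgroup X) (z : X) : Prop := ∀ w, w * w ∈ Q → w ∉ Q → ∀ e ∈ E, ⁅w, e⁆ ≠ z

/-- All involutions lie in the normal elementary abelian subgroup `E`. -/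
structure NB (E : Subgroup X) (z : X) : Prop where
  nrm : E.Normal
  sq : ∀ e ∈ E, e * e = 1
  mem : z ∈ E
  inv : ∀ x, x * x = 1 → x ∈ E

/-- The case `O₂(X) = E` without further involutions. -/
structure N1 (E : Subgroup X) (z : X) : Prop extends NB E z where
  ex : ∀ a ∈ E, a ≠ 1 → a ≠ z → ∃ c, c * a = a * c ∧ c ^ 4 ∈ E ∧ ∃ e ∈ E, ⁅c * c, e⁆ ≠ 1
  y1 : ∀ d, d ^ 4 ∈ E → ∀ e ∈ E, ⁅d * d, e⁆ ≠ 1 → d ^ 4 = z ∨ d ^ 4 = z * ⁅d * d, e⁆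
  y2 : ∀ c d, c ^ 4 = z → d ^ 4 ∈ E → ∀ e ∈ E, ⁅c * c, e⁆ ≠ 1 → ∀ e' ∈ E, ⁅d * d, e'⁆ ≠ 1 →
    d ^ 4 = z

/-- The case `O₂(X) = Z₄ × E₈`. -/
structure N2 (E : Subgroup X) (z u : X) : Prop extends NB E z where
  cu : ∀ e ∈ E, u * e = e * u
  su : u * u = z
  cq : ∀ x, (∀ e ∈ E, x * e = e * x) → x * x = 1 ∨ x * x = z

/-- The centraliser `2⁴ : L₃(2)` of `M₂₃`. -/
structure MX (A : Subgroup X) (z : X) : Prop where
  nrm : A.Normal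
  sq : ∀ a ∈ A, a * a = 1
  card : Nat.card A = 16
  cardX : Nat.card X = 2688
  mem : z ∈ A
  cent : ∀ x, (∀ a ∈ A, x * a = a * x) → x ∈ A
  free : ∀ w, w ∉ A → w * w ∈ A → Nat.card (C1 w ⊓ A : Subgroup X) ≤ 4
  out : ∀ w w', w ∉ A → w' ∉ A → w * w = 1 → w' * w' = 1 → IsConj w w'
  ex : ∃ w, w ∉ A ∧ w * w = 1
  inn : ∀ a ∈ A, ∀ b ∈ A, a ≠ 1 → a ≠ z → b ≠ 1 → b ≠ z → IsConj a b
  four : ∃ c, c * c ∉ A ∧ c ^ 4 ∈ A

/-- The same configuration inside `G`: `S` is a Sylow subgroup of `C(t)`. -/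
structure MS (t : G) (S A : Subgroup G) : Prop where
  ord : orderOf t = 2
  syl : IsSylowIn 2 S (C1 t)
  le : A ≤ S
  mem : t ∈ A
  sq : ∀ a ∈ A, a * a = 1
  card : Nat.card A = 16
  cardS : Nat.card S = 128
  seven : 7 ∣ Nat.card (C1 t)
  fix : ∀ n ∈ C1 t, cj n A ≤ S → cj n A = A
  nrm : centralizerPPrimeCore 2 t = ⊥ → C1 t ≤ Ns A
  free : ∀ w ∈ S, w ∉ A → w * w ∈ A → Nat.card (C1 w ⊓ A : Subgroup G) ≤ 4
  out : ∀ w ∈ S, ∀ w' ∈ S, w ∉ A → w' ∉ A → w * w = 1 → w' * w' = 1 → IsConj w w'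
  ex : ∃ w ∈ S, w ∉ A ∧ w * w = 1
  inn : ∀ a ∈ A, ∀ b ∈ A, a ≠ 1 → a ≠ t → b ≠ 1 → b ≠ t → ∃ c ∈ C1 t, c * a * c⁻¹ = b
  four : ∃ c ∈ S, c * c ∉ A
  z : ∀ x ∈ S, (∀ s ∈ S, x * s = s * x) → x = 1 ∨ x = t

end Cfsg.Lib.GHC
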