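import Cfsg.Agent.GHC.Defs
import Cfsg.Agent.GHB.A5c
import Cfsg.Agent.SporChar.HJStepC
import Cfsg.Agent.Solv.CardModEq

/-! The quotient `X` of an involution centraliser with a section `A₅`: structure of `O₂(X)` and
the action on the five pairs of noncentral involutions. -/

set_option autoImplicit false

namespace Cfsg.Lib.GHC

open Subgroup Cfsg.Lib.Trans Cfsg.Lib.Gold Cfsg.Lib.Solv Cfsg.Lib.Local Cfsg.Lib.Spor
  Cfsg.Lib.Spor.HJ Cfsg.Lib.Spor.WF Cfsg.Lib.Spor.Bulk Cfsg.Lib.Spor.PK Cfsg.Lib.GHB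
open scoped commutatorElement

theorem es_sq {Y : Type*} [Group Y] {z p q r s : Y} (h : ES z p q r s) (x : Y) :
    x * x ∈ zpowers z := by
  have c := (h.cen z).2 (Or.inr rfl)
  have : (zpowers z).Normal := ⟨by
    rintro _ ⟨k, rfl⟩ g
    rw [← conj_zpow, c, mul_inv_cancel_right]
    exact ⟨k, rfl⟩⟩
  let f := QuotientGroup.mk' (zpowers z)
  have fz : f z = 1 := (QuotientGroup.eq_one_iff z).2 (mem_zpowers z)
  have k : ∀ {a b : Y}, ⁅a, b⁆ = z → f a * f b = f b * f a := fun e => by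
    rw [← commutatorElement_eq_one_iff_mul_comm, ← map_commutatorElement, e, fz]
  have g : ∀ a, f p * f a = f a * f p → f q * f a = f a * f q → f r * f a = f a * f r →
      f s * f a = f a * f s → ∀ x, f x * f a = f a * f x := fun a a1 a2 a3 a4 x =>
    mem_centralizer_singleton_iff.1 ((h.gen ((C1 (f a)).comap f)
      (mem_centralizer_singleton_iff.2 (by simp [fz])) (mem_centralizer_singleton_iff.2 a1)
      (mem_centralizer_singleton_iff.2 a2) (mem_centralizer_singleton_iff.2 a3)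
      (mem_centralizer_singleton_iff.2 a4)).ge (mem_top x))
  have cm : ∀ a b, f a * f b = f b * f a := fun a b => g b
    (g p rfl (k h.pq).symm (k h.pr).symm (k h.ps).symm b).symm
    (g q (k h.pq) rfl (k h.qr).symm (k h.qs).symm b).symm
    (g r (k h.pr) (k h.qr) rfl (k h.rs).symm b).symm
    (g s (k h.ps) (k h.qs) (k h.rs) rfl b).symm a
  let H : Subgroup Y :=
    { carrier := {x | f x * f x = 1}
      one_mem' := by simp
      mul_mem' := fun {a b} ha hb => by
        change f (a * b) * f (a * b) = 1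
        rw [map_mul, mul_assoc, ← mul_assoc (f b), cm b a, mul_assoc, show f b * f b = 1 from hb,
          mul_one]
        exact ha
      inv_mem' := fun {a} ha => by
        change f a⁻¹ * f a⁻¹ = 1
        rw [map_inv, ← mul_inv_rev, show f a * f a = 1 from ha, inv_one] }
  have m : ∀ {a : Y}, a * a = 1 → a ∈ H := fun {a} e => by
    change f a * f a = 1
    rw [← map_mul, e, map_one]
  have := (h.gen H (m h.zz) (m h.pp) (m h.qq) (m h.rr) (m h.ss)).ge (mem_top x)
  exact (QuotientGroup.eq_one_iff _).1 ((map_mul f x x).trans this)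

variable {X : Type*} [Group X] {T : Tup X}

/-- The action on the five pairs of noncentral involutions. -/
theorem exists_p5 [Finite X] (h : PreLX T.sQ T.z) (hs : Sat T.gQ 7 iM rQ)
    (hc : ∀ x : X, x * T.z = T.z * x) :
    ∃ π : X →* Equiv.Perm (Fin 5), (∀ c i, T.R c i (π c i)) ∧ π.ker = T.sQ ∧
      ∀ c i j, T.R c i j → π c i = j := by
  have he := embQ hs h.ne_one
  have hne := q_ne he
  have n1 : ∀ i, T.a i ≠ 1 ∧ T.a i ≠ T.z := fun i => by fin_cases i <;> simp [Tup.a, hne]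
  have n2 : ∀ i j, T.a i = T.a j ∨ T.a i = T.a j * T.z → i = j := fun i j => by
    fin_cases i <;> fin_cases j <;> simp [Tup.a, hne]
  have hz := h.mul_self
  have hn : ∀ c : X, c ∈ normalizer (T.sQ : Set X) := fun c =>
    h.norm (mem_centralizer_singleton_iff.2 (hc c))
  have ex : ∀ (c : X) i, ∃ j, T.R c i j := fun c i => by
    have e := h.conj_eq (hn c)
    rcases q_inv he _ (conj_mem_of_mem_normalizer (hn c) (a_mem i)) (by
      rw [conj_mul, a_sq hs, mul_one, mul_inv_cancel]) with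
      e1 | e1 | e1 | e1 | e1 | e1 | e1 | e1 | e1 | e1 | e1 | e1
    · exact absurd (by simpa using e1) (n1 i).1
    · exact absurd (by simpa using e1.trans e.symm) (n1 i).2
    exacts [⟨0, Or.inl e1⟩, ⟨0, Or.inr e1⟩, ⟨1, Or.inl e1⟩, ⟨1, Or.inr e1⟩, ⟨2, Or.inl e1⟩,
      ⟨2, Or.inr e1⟩, ⟨3, Or.inl e1⟩, ⟨3, Or.inr e1⟩, ⟨4, Or.inl e1⟩, ⟨4, Or.inr e1⟩]
  have un : ∀ c i j k, T.R c i j → T.R c i k → j = k := fun c i j k h1 h2 => n2 j k (by
    rcases h1 with h1 | h1 <;> rcases h2 with h2 | h2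
    · exact Or.inl (h1.symm.trans h2)
    · exact Or.inr (h1.symm.trans h2)
    · exact Or.inr (by rw [← h2, h1, mul_assoc, hz, mul_one])
    · exact Or.inl (mul_right_cancel (h1.symm.trans h2)))
  have cp : ∀ (c : X) d i j k, T.R d i j → T.R c j k → T.R (c * d) i k := fun c d i j k h1 h2 => by
    have e := h.conj_eq (hn c)
    have e1 : c * d * T.a i * (c * d)⁻¹ = c * (d * T.a i * d⁻¹) * c⁻¹ := by group
    rw [Tup.R, e1]
    rcases h1 with h1 | h1 <;> rw [h1]
    · exact h2
    · rw [← conj_mul, e]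
      rcases h2 with h2 | h2 <;> rw [h2]
      · exact Or.inr rfl
      · exact Or.inl (by rw [mul_assoc, hz, mul_one])
  choose p hp using ex
  let π : X →* Equiv.Perm (Fin 5) := MonoidHom.toHomPerm
    { toFun := p
      map_one' := funext fun i => un _ i _ _ (hp 1 i) (Or.inl (by simp; rfl))
      map_mul' := fun c d => funext fun i => un _ i _ _ (hp (c * d) i)
        (cp c d i _ _ (hp d i) (hp c _)) }
  refine ⟨π, hp, ?_, fun c i j e => un c i _ _ (hp c i) e⟩
  ext c
  rw [MonoidHom.mem_ker]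
  constructor
  · intro e
    have e1 : ∀ i, T.a i ∈ h.fixMod (hn c) := fun i => ⟨a_mem i, h.mem_iff.2 (by
      have := hp c i
      rw [show p c i = i from congrArg (fun f : Equiv.Perm (Fin 5) => f i) e] at this
      rcases this with e2 | e2 <;> rw [e2]
      · exact Or.inl (mul_inv_cancel _)
      · exact Or.inr (by rw [h.central _ (a_mem i), mul_inv_cancel_right]))⟩
    refine h.largeSymp.mem_of_comm c (mem_centralizer_singleton_iff.2 (hc c)) fun q hq =>
      (sub_le (H := h.fixMod (hn c)) (fun L hL => ?_) hq).2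
    fin_cases hL <;> simp only [wv_cons, wv_nil, one_mul]
    exacts [e1 0, e1 1, e1 2, e1 3, e1 4, ⟨h.mem, by
      rw [Tup.gQ_6, h.conj_eq (hn c), mul_inv_cancel]; exact one_mem _⟩]
  · intro e
    refine Equiv.ext fun i => un c i _ _ (hp c i) ?_
    rcases h.comm_or e (a_mem i) with e1 | e1
    · exact Or.inl (by rw [e1, mul_inv_cancel_right]; rfl)
    · exact Or.inr (by rw [e1, ← h.central _ (a_mem i)]; rfl)

variable {G : Type*} [Group G] [Finite G] {t : G} {π : C1 t →* X}

theorem St.preLX (h : St t π)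
    (hA : ∃ A : Subgroup (X ⧸ pCore 2 X), Nonempty (A ≃* alternatingGroup (Fin 5))) :
    PreLX (pCore 2 X) (tb π) ∧ Nat.card (pCore 2 X) = 32 ∧ 60 ∣ (pCore 2 X).index := by
  have := h.finite
  have : Fact (Nat.Prime 2) := ⟨Nat.prime_two⟩
  have : Fact (Nat.Prime 5) := ⟨by norm_num⟩
  obtain ⟨A, ⟨e⟩⟩ := hA
  have h60 : 60 ∣ (pCore 2 X).index := by
    have := A.card_subgroup_dvd_card
    rwa [Nat.card_congr e.toEquiv, nat_card_alternatingGroup, Nat.card_eq_fintype_card,
      Fintype.card_fin] at this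
  rcases struct_A5 h.cent h.rank A e with ⟨-, h1⟩ | ⟨h1, z, p, q, r, s, hE⟩
  · exfalso
    obtain ⟨f, hf⟩ := exists_prime_orderOf_dvd_card' (G := X) 5
      ((show 5 ∣ 60 by norm_num).trans (h60.trans (index_dvd_card _)))
    have a := card_modEq_card_inf_centralizer (q := 5) (Q := zpowers f) (L := pCore 2 X)
      (IsPGroup.of_card (n := 1) (by rw [Nat.card_zpowers, hf, pow_one]))
      (by rw [normalizer_eq_top]; exact le_top)
    have b := card_dvd_of_le (inf_le_left : pCore 2 X ⊓ Cs (zpowers f) ≤ _)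
    have c : pCore 2 X ⊓ Cs (zpowers f) ≠ ⊥ := fun k => h.tb_ne (mem_bot.1 (k.le
      ⟨h.tb_mem, fun x _ => h.tb_comm x⟩))
    rw [Ne, ← card_eq_one] at c
    have d : Nat.card (pCore 2 X ⊓ Cs (zpowers f) : Subgroup X) = 16 := by
      rw [h1] at a b
      have := Nat.le_of_dvd (by norm_num) b
      generalize Nat.card (pCore 2 X ⊓ Cs (zpowers f) : Subgroup X) = n at *
      interval_cases n <;> simp_all [Nat.ModEq]
    have k := eq_of_le_of_card_ge (inf_le_left : pCore 2 X ⊓ Cs (zpowers f) ≤ _) (by rw [d, h1])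
    have := orderOf_dvd_natCard _ (h.cent fun x hx => (k.ge hx).2 f (mem_zpowers f) |>.symm)
    rw [hf, h1] at this
    omega
  · have ez : (z : X) = tb π := by
      rcases (hE.cen ⟨_, h.tb_mem⟩).1 (fun g => Subtype.ext (h.tb_comm g)) with k | k
      · exact absurd (congrArg Subtype.val k) h.tb_ne
      · exact (congrArg Subtype.val k).symm
    have o := orderOf_eq_prime (p := 2) (by rw [sq, h.tb_sq]) h.tb_ne
    have cen : ∀ c ∈ pCore 2 X, (∀ q ∈ pCore 2 X, q * c = c * q) → c ∈ zpowers (tb π) :=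
      fun c hc k => by
        rcases (hE.cen ⟨c, hc⟩).1 (fun g => Subtype.ext (k g g.2)) with k | k
        · rw [show c = 1 from congrArg Subtype.val k]; exact one_mem _
        · rw [show c = z from congrArg Subtype.val k, ez]; exact mem_zpowers _
    refine ⟨⟨⟨h.tb_mem, o, fun q _ => h.tb_comm q, fun x hx => ?_, fun c hc k _ => cen c hc k⟩,
      fun c hc => cen c (h.cent hc) hc, by rw [normalizer_eq_top]; exact le_top, fun k => ?_⟩,
      h1, h60⟩
    · obtain ⟨k, hk⟩ := es_sq hE ⟨x, hx⟩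
      exact ⟨k, by rw [← ez]; exact congrArg Subtype.val hk⟩
    · have := Trans.card_le_of_le k
      rw [h1, Nat.card_zpowers, o] at this
      omega

/-- A section over a Sylow subgroup of `X` whose range is a Sylow subgroup of `G`. -/
theorem St.exists_syl (h : St t π) (hZ : Cs (pCore 2 X) ≤ zpowers (tb π)) (P : Sylow 2 X) :
    ∃ (j : P →* C1 t) (S : Sylow 2 G), (∀ x, π (j x) = x) ∧ (∀ g, g ∈ S ↔ ∃ x, (j x : G) = g) ∧
      IsSylowIn 2 (S : Subgroup G) (C1 t) ∧ ∃ hz, (j ⟨tb π, hz⟩ : G) = t := by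
  have := h.finite
  have : Fact (Nat.Prime 2) := ⟨Nat.prime_two⟩
  obtain ⟨j, h1, -, h2⟩ := h.exists_sec P.isPGroup'
  have h3 := h2 P.not_dvd_index
  have hz : tb π ∈ P := pCore_le_sylow P h.tb_mem
  have tt : t * t = 1 := by rw [← sq, ← h.ord, pow_orderOf_eq_one]
  have e : (j ⟨tb π, hz⟩ : G) = t := by
    have a : j ⟨tb π, hz⟩ * j ⟨tb π, hz⟩ = 1 := by
      rw [← map_mul, ← map_one j]
      exact congrArg j (Subtype.ext h.tb_sq)
    have := h.eq_one (x := j ⟨tb π, hz⟩ * ⟨t, mem_centralizer_singleton_iff.2 rfl⟩) (k := 1)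
      (Subtype.ext (by
        change ((j ⟨tb π, hz⟩ : G) * t) ^ 2 = 1
        rw [Commute.mul_pow (mem_centralizer_singleton_iff.1 (j ⟨tb π, hz⟩).2), sq, sq, tt,
          mul_one]
        exact congrArg Subtype.val a)) (by rw [map_mul, h1]; exact h.tb_sq)
    exact mul_right_cancel ((congrArg Subtype.val this).trans tt.symm)
  have m : ∀ g, g ∈ j.range.map (C1 t).subtype ↔ ∃ x, (j x : G) = g := fun g =>
    ⟨fun ⟨_, ⟨x, a⟩, b⟩ => ⟨x, by rw [a]; exact b⟩, fun ⟨x, a⟩ => ⟨_, ⟨x, rfl⟩, a⟩⟩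
  have o := orderOf_eq_prime (p := 2) (by rw [sq, h.tb_sq]) h.tb_ne
  obtain ⟨S, hS⟩ := (syl_top h3 (ne_one_of_orderOf_two h.ord) ((m t).2 ⟨_, e⟩) fun x hx k => by
    obtain ⟨y, rfl⟩ := (m x).1 hx
    have : (y : X) ∈ zpowers (tb π) := hZ fun q hq => by
      have := k _ ((m _).2 ⟨⟨q, pCore_le_sylow P hq⟩, rfl⟩)
      have a := congrArg π (Subtype.ext this : j y * j ⟨q, pCore_le_sylow P hq⟩ = j _ * j y)
      simpa [h1] using a.symm
    rcases (mem_zpowers_iff_of_orderOf_two o).1 this with a | a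
    · exact Or.inl (by rw [show y = 1 from Subtype.ext a, map_one]; rfl)
    · exact Or.inr (by rw [show y = ⟨tb π, hz⟩ from Subtype.ext a, e])).exists_sylow_eq
  exact ⟨j, S, h1, fun g => by rw [← m, ← hS]; rfl, hS ▸ h3, hz, e⟩

end Cfsg.Lib.GHC
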